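import Mathlib.FieldTheory.Fixed
import Mathlib.FieldTheory.Galois.Basic
import Mathlib.RingTheory.TensorProduct.Maps
import Mathlib.RingTheory.Ideal.Quotient.Operations
import Mathlib.RingTheory.KrullDimension.NonZeroDivisors
import Mathlib.RingTheory.Ideal.GoingUp
import Mathlib.LinearAlgebra.FiniteDimensional.Lemmas

/-!
# The degree of a completed extension is at most the order of the decomposition group
-/

set_option autoImplicit false
set_option linter.style.haveILetI false

universe u

open TensorProduct

namespace Groth.L28.CplGalois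

/-- An integral algebra of a domain of dimension at most that of the algebra is injective. -/
theorem injective_of_dim {T A : Type u} [CommRing T] [CommRing A] [IsDomain T] [Algebra T A]
    [Algebra.IsIntegral T A] (hdim : ringKrullDim T ≤ ringKrullDim A) (htop : ringKrullDim T < ⊤) :
    Function.Injective (algebraMap T A) := by
  rw [injective_iff_map_eq_zero]
  intro r hr
  by_contra hr0
  let Q := RingHom.ker (algebraMap T A)
  letI : Algebra (T ⧸ Q) A := (RingHom.kerLift (algebraMap T A)).toAlgebra
  haveI : IsScalarTower T (T ⧸ Q) A := IsScalarTower.of_algebraMap_eq fun _ => rfl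
  haveI : Algebra.IsIntegral (T ⧸ Q) A := ⟨fun x => (Algebra.IsIntegral.isIntegral (R := T) x).tower_top⟩
  have h1 : ringKrullDim A ≤ ringKrullDim (T ⧸ Q) :=
    Order.krullDim_le_of_strictMono (PrimeSpectrum.comap (algebraMap (T ⧸ Q) A)) fun I J h =>
      Ideal.IsIntegral.comap_lt_comap (I := I.asIdeal) (J := J.asIdeal) h
  have h2 : ringKrullDim (T ⧸ Q) + 1 ≤ ringKrullDim T :=
    ringKrullDim_succ_le_of_surjective (Ideal.Quotient.mk Q) Ideal.Quotient.mk_surjective
      (mem_nonZeroDivisors_of_ne_zero hr0) (Ideal.Quotient.eq_zero_iff_mem.2 hr)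
  have h3 : ringKrullDim T + 1 ≤ ringKrullDim T := (add_le_add (hdim.trans h1) le_rfl).trans h2
  have h4 : (0 : WithBot ℕ∞) ≤ ringKrullDim T := ringKrullDim_nonneg_of_nontrivial
  revert h3 h4 htop
  generalize ringKrullDim T = d
  intro htop h3 h4
  cases d with
  | bot => simp at h4
  | coe d =>
    cases d with
    | top => exact lt_irrefl _ htop
    | coe n =>
      have : n + 1 ≤ n := by exact_mod_cast h3
      omega

/-- If a field is spanned by the image of `S` and only the elements of `D` are induced by its
automorphisms, its degree is at most the order of `D`. -/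
theorem finrank_le_card {R S G F L : Type u} [CommRing R] [CommRing S] [Algebra R S]
    [Group G] [Finite G] [MulSemiringAction G S] [SMulCommClass G R S]
    [Field F] [Field L] [Algebra R F] [Algebra F L] [Algebra R L] [IsScalarTower R F L] (j : S →ₐ[R] L)
    (hspan : Submodule.span F (Set.range j) = ⊤)
    {ι : Type u} [Fintype ι] (b : ι → S) (hcard : Fintype.card ι = Nat.card G)
    (hb : ∀ s : S, ∃ r : R, algebraMap R F r ≠ 0 ∧ r • s ∈ Submodule.span R (Set.range b))
    (D : Subgroup G) (hσ : ∀ g : G, ∀ σ : L →ₐ[F] L, (∀ s, σ (j s) = j (g • s)) → g ∈ D) :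
    FiniteDimensional F L ∧ Module.finrank F L ≤ Nat.card D := by
  classical
  let φ : G → (F ⊗[R] S →ₐ[F] L) := fun g => Algebra.TensorProduct.lift (Algebra.ofId F L)
    (j.comp (MulSemiringAction.toAlgHom R S g)) fun _ _ => Commute.all _ _
  have hφ : ∀ g s, φ g (1 ⊗ₜ s) = j (g • s) := fun g s => by simp [φ]
  have hsurj : ∀ g, Function.Surjective (φ g) := fun g x => by
    have hx : x ∈ LinearMap.range (φ g).toLinearMap := by
      have h : Submodule.span F (Set.range j) ≤ LinearMap.range (φ g).toLinearMap := by
        rw [Submodule.span_le]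
        rintro _ ⟨s, rfl⟩
        exact ⟨1 ⊗ₜ (g⁻¹ • s), by simp [hφ]⟩
      exact h (hspan ▸ Submodule.mem_top)
    exact hx
  have hA : Submodule.span F (Set.range fun i => (1 : F) ⊗ₜ[R] b i) = ⊤ := by
    refine eq_top_iff.2 fun x _ => ?_
    induction x using TensorProduct.induction_on with
    | zero => exact zero_mem _
    | add x y hx hy => exact add_mem (hx trivial) (hy trivial)
    | tmul x s =>
      obtain ⟨r, hr, hrs⟩ := hb s
      have h1 : ∀ t ∈ Submodule.span R (Set.range b),
          (1 : F) ⊗ₜ[R] t ∈ Submodule.span F (Set.range fun i => (1 : F) ⊗ₜ[R] b i) := fun t ht => by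
        induction ht using Submodule.span_induction with
        | mem t ht => obtain ⟨i, rfl⟩ := ht; exact Submodule.subset_span ⟨i, rfl⟩
        | zero => simp
        | add t t' _ _ h h' => rw [TensorProduct.tmul_add]; exact add_mem h h'
        | smul a t _ h =>
          rw [TensorProduct.tmul_smul, ← algebraMap_smul F a ((1 : F) ⊗ₜ[R] t)]
          exact Submodule.smul_mem _ _ h
      have h2 := h1 _ hrs
      rw [TensorProduct.tmul_smul, ← algebraMap_smul F r ((1 : F) ⊗ₜ[R] s)] at h2
      have h3 := Submodule.smul_mem _ (x * (algebraMap R F r)⁻¹) h2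
      rw [smul_smul, mul_assoc, inv_mul_cancel₀ hr, mul_one, TensorProduct.smul_tmul', smul_eq_mul,
        mul_one] at h3
      exact h3
  haveI : Module.Finite F (F ⊗[R] S) := ⟨by rw [← hA]; exact Submodule.fg_span (Set.finite_range _)⟩
  haveI : FiniteDimensional F L := Module.Finite.of_surjective (φ 1).toLinearMap (hsurj 1)
  refine ⟨this, ?_⟩
  let rep : G ⧸ D → G := fun c => c.out⁻¹
  let I : G ⧸ D → Ideal (F ⊗[R] S) := fun c => RingHom.ker (φ (rep c))
  have hmax : ∀ c, (I c).IsMaximal := fun c => RingHom.ker_isMaximal_of_surjective _ (hsurj _)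
  have hne : ∀ c c', I c = I c' → c = c' := fun c c' h => by
    let e : (F ⊗[R] S ⧸ RingHom.ker (φ (rep c))) ≃ₐ[F] L :=
      Ideal.quotientKerAlgEquivOfSurjective (hsurj (rep c))
    let lf : (F ⊗[R] S ⧸ RingHom.ker (φ (rep c))) →ₐ[F] L :=
      Ideal.Quotient.liftₐ (RingHom.ker (φ (rep c))) (φ (rep c')) fun a ha => by
        have : a ∈ I c' := h ▸ ha
        exact this
    let σ : L →ₐ[F] L := lf.comp e.symm.toAlgHom
    have hσ' : ∀ x, σ (φ (rep c) x) = φ (rep c') x := fun x => by
      have : e.symm (φ (rep c) x) = Ideal.Quotient.mk _ x := by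
        rw [AlgEquiv.symm_apply_eq]; rfl
      show lf (e.symm _) = _
      rw [this]; rfl
    have hg := hσ (rep c' * (rep c)⁻¹) σ fun s => by
      have := hσ' (1 ⊗ₜ ((rep c)⁻¹ • s))
      rwa [hφ, hφ, smul_inv_smul, smul_smul] at this
    rw [← QuotientGroup.out_eq' c, ← QuotientGroup.out_eq' c', eq_comm, QuotientGroup.eq]
    simpa [rep] using hg
  have hcop : Pairwise (Function.onFun IsCoprime I) := fun c c' hcc' => by
    haveI := hmax c
    haveI := hmax c'
    exact Ideal.isCoprime_of_isMaximal fun h => hcc' (hne c c' h)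
  let pr : F ⊗[R] S →ₗ[F] (G ⧸ D → L) := LinearMap.pi fun c => (φ (rep c)).toLinearMap
  have hpr : Function.Surjective pr := fun x => by
    choose a ha using fun c => hsurj (rep c) (x c)
    obtain ⟨r, hr⟩ := Ideal.exists_forall_sub_mem_ideal hcop a
    refine ⟨r, funext fun c => ?_⟩
    have := hr c
    rw [RingHom.mem_ker, map_sub, sub_eq_zero, ha] at this
    exact this
  haveI : Fintype (G ⧸ D) := Fintype.ofFinite _
  have h1 : Module.finrank F (G ⧸ D → L) ≤ Nat.card G := by
    have h := LinearMap.finrank_range_le pr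
    rw [LinearMap.range_eq_top.2 hpr, finrank_top] at h
    refine h.trans ?_
    have := finrank_range_le_card (R := F) (M := F ⊗[R] S) fun i => (1 : F) ⊗ₜ[R] b i
    rw [Set.finrank, hA, finrank_top] at this
    exact this.trans_eq hcard
  rw [Module.finrank_pi_fintype, Finset.sum_const, Finset.card_univ, smul_eq_mul,
    ← Nat.card_eq_fintype_card, Subgroup.card_eq_card_quotient_mul_card_subgroup D] at h1
  exact Nat.le_of_mul_le_mul_left h1 Nat.card_pos

end Groth.L28.CplGalois
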