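import Groth.Agent.L28.CplUnram.Basic
import Mathlib.RingTheory.AdicCompletion.Functoriality
import Mathlib.LinearAlgebra.FreeModule.Finite.Basic

/-!
# The completion of a localisation of a finite algebra is spanned by the generators of the algebra
-/

set_option autoImplicit false
set_option maxHeartbeats 1000000
set_option linter.style.haveILetI false

universe u

namespace Groth.L28.CplGalois

open IsLocalRing

theorem completion_spanned {R S : Type u} [CommRing R] [CommRing S] [IsNoetherianRing R] [Algebra R S]
    [Module.Finite R S] (P : Ideal R) [P.IsPrime] (Q : Ideal S) [Q.IsPrime] [Q.LiesOver P]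
    [Algebra (EGA4.Cpl (Localization.AtPrime P)) (EGA4.Cpl (Localization.AtPrime Q))]
    (halg : ∀ r : R,
      algebraMap (EGA4.Cpl (Localization.AtPrime P)) (EGA4.Cpl (Localization.AtPrime Q))
          (algebraMap (Localization.AtPrime P) (EGA4.Cpl (Localization.AtPrime P)) (algebraMap R (Localization.AtPrime P) r)) =
        algebraMap (Localization.AtPrime Q) (EGA4.Cpl (Localization.AtPrime Q)) (algebraMap S (Localization.AtPrime Q) (algebraMap R S r)))
    (n : ℕ) (c : Fin n → S) (hc : ∀ s : S, ∃ g : Fin n → R, ∑ i, g i • c i = s) :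
    Function.Surjective (Fintype.linearCombination (EGA4.Cpl (Localization.AtPrime P))
      fun i => algebraMap (Localization.AtPrime Q) (EGA4.Cpl (Localization.AtPrime Q))
        (algebraMap S (Localization.AtPrime Q) (c i))) := by
  classical
  haveI : IsNoetherianRing S := isNoetherian_of_tower R inferInstance
  have hQP : Q.comap (algebraMap R S) = P := (Ideal.LiesOver.over (P := Q) (p := P)).symm
  let f : Localization.AtPrime P →+* Localization.AtPrime Q :=
    Localization.localRingHom P Q (algebraMap R S) hQP.symm
  have hf : ∀ r, f (algebraMap R _ r) = algebraMap S _ (algebraMap R S r) := fun r =>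
    Localization.localRingHom_to_map P Q (algebraMap R S) hQP.symm r
  letI : Algebra (Localization.AtPrime P) (Localization.AtPrime Q) := f.toAlgebra
  set mP := maximalIdeal (Localization.AtPrime P)
  set mQ := maximalIdeal (Localization.AtPrime Q)
  haveI hloc : IsLocalHom f := Localization.isLocalHom_localRingHom P Q (algebraMap R S) hQP.symm
  have hle : mP.map f ≤ mQ := Ideal.map_le_iff_le_comap.2 fun x hx =>
    fun hu => hx ((isUnit_map_iff f x).1 hu)
  obtain ⟨N, hN⟩ := (mP.map f).exists_pow_le_of_le_radical_of_fg (I := mQ) (by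
    rw [Ideal.radical_eq_sInf]
    refine le_sInf fun p ⟨hp, hpp⟩ => ?_
    haveI := hpp
    have h1 : p.comap (algebraMap S _) ≤ Q := by
      exact (Ideal.comap_mono (IsLocalRing.le_maximalIdeal hpp.ne_top)).trans_eq
        (IsLocalization.AtPrime.under_maximalIdeal (Localization.AtPrime Q) Q)
    have h2 : P ≤ (p.comap (algebraMap S _)).comap (algebraMap R S) := fun r hr => by
      rw [Ideal.mem_comap, Ideal.mem_comap, ← hf]
      exact hp (Ideal.mem_map_of_mem f ((IsLocalization.AtPrime.to_map_mem_maximal_iff _ P r).2 hr))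
    have h3 : p.comap (algebraMap S _) = Q := by
      by_contra hne
      haveI : (p.comap (algebraMap S (Localization.AtPrime Q))).IsPrime := Ideal.IsPrime.comap _
      have := Ideal.IsIntegral.comap_lt_comap (R := R) (lt_of_le_of_ne h1 hne)
      rw [hQP] at this
      exact not_lt_of_ge h2 this
    show mQ ≤ p
    rw [show mQ = Q.map (algebraMap S (Localization.AtPrime Q)) from
      (IsLocalization.AtPrime.map_eq_maximalIdeal Q _).symm]
    exact (Ideal.map_mono h3.ge).trans Ideal.map_comap_le) (IsNoetherian.noetherian _)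
  -- the module structures
  have hθ : ∀ x, algebraMap (EGA4.Cpl (Localization.AtPrime P)) (EGA4.Cpl (Localization.AtPrime Q))
      (algebraMap (Localization.AtPrime P) _ x) = algebraMap (Localization.AtPrime Q) _ (f x) := by
    refine RingHom.congr_fun (IsLocalization.ringHom_ext P.primeCompl (RingHom.ext fun r => ?_)
      : (algebraMap (EGA4.Cpl (Localization.AtPrime P)) (EGA4.Cpl (Localization.AtPrime Q))).comp
          (algebraMap (Localization.AtPrime P) _) = (algebraMap (Localization.AtPrime Q) _).comp f)
    simp only [RingHom.comp_apply]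
    rw [halg, hf]
  letI : Algebra (Localization.AtPrime P) (EGA4.Cpl (Localization.AtPrime Q)) :=
    ((algebraMap (Localization.AtPrime Q) (EGA4.Cpl (Localization.AtPrime Q))).comp f).toAlgebra
  haveI : IsScalarTower (Localization.AtPrime P) (Localization.AtPrime Q) (EGA4.Cpl (Localization.AtPrime Q)) :=
    IsScalarTower.of_algebraMap_eq fun _ => rfl
  haveI : IsScalarTower (Localization.AtPrime P) (EGA4.Cpl (Localization.AtPrime P))
      (EGA4.Cpl (Localization.AtPrime Q)) := IsScalarTower.of_algebraMap_eq fun x => (hθ x).symm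
  haveI : IsAdicComplete mQ (EGA4.Cpl (Localization.AtPrime Q)) :=
    AdicCompletion.isAdicComplete (IsNoetherian.noetherian _)
  haveI : IsHausdorff (mP.map (algebraMap (Localization.AtPrime P) (Localization.AtPrime Q)))
      (EGA4.Cpl (Localization.AtPrime Q)) := by
    refine ⟨fun x hx => IsHausdorff.haus (I := mQ) inferInstance x fun k => ?_⟩
    exact (hx k).mono (Submodule.smul_mono (Ideal.pow_right_mono hle k) le_rfl)
  haveI : IsHausdorff mP (EGA4.Cpl (Localization.AtPrime Q)) := IsHausdorff.map_algebraMap_iff.mp ‹_›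
  haveI : IsAdicComplete mP (AdicCompletion mP (Fin n → Localization.AtPrime P)) :=
    AdicCompletion.isAdicComplete (IsNoetherian.noetherian _)
  let Φ := Fintype.linearCombination (EGA4.Cpl (Localization.AtPrime P))
      fun i => algebraMap (Localization.AtPrime Q) (EGA4.Cpl (Localization.AtPrime Q))
        (algebraMap S (Localization.AtPrime Q) (c i))
  show Function.Surjective Φ
  let ee := (AdicCompletion.piEquivFin mP n).toLinearMap.restrictScalars (Localization.AtPrime P)
  suffices h : Function.Surjective ((Φ.restrictScalars (Localization.AtPrime P)).comp ee) from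
    Function.Surjective.of_comp h
  refine surjective_of_mkQ_comp_surjective (I := mP) fun y => ?_
  obtain ⟨y, rfl⟩ := Submodule.mkQ_surjective _ y
  obtain ⟨a, ha⟩ : ∃ a : Localization.AtPrime Q, y - algebraMap _ (EGA4.Cpl (Localization.AtPrime Q)) a ∈
      (mQ ^ N • ⊤ : Submodule (Localization.AtPrime Q) (EGA4.Cpl (Localization.AtPrime Q))) := by
    obtain ⟨y', rfl⟩ := AdicCompletion.mk_surjective _ _ y
    refine ⟨y'.1 N, ?_⟩
    rw [AdicCompletion.pow_smul_top_eq_ker_eval (IsNoetherian.noetherian _), LinearMap.mem_ker, map_sub,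
      sub_eq_zero]
    rfl
  obtain ⟨⟨p, q, hq⟩, hpq⟩ := IsLocalization.surj Q.primeCompl a
  obtain ⟨t, ht, q', e, he, hqe⟩ : ∃ t : R, t ∉ P ∧ ∃ q' e : S, e ∈ Q ^ N ∧ q * q' + e = algebraMap R S t := by
    by_contra hcon
    obtain ⟨Q', hQ', hQ'p, hQ'P⟩ := Ideal.exists_ideal_over_prime_of_isIntegral P (Ideal.span {q} ⊔ Q ^ N) (by
      intro r hr
      by_contra hrP
      obtain ⟨_, hx, e, he, hxe⟩ := Submodule.mem_sup.1 hr
      obtain ⟨q', rfl⟩ := Ideal.mem_span_singleton'.1 hx
      exact hcon ⟨r, hrP, q', e, he, by rw [mul_comm]; exact hxe⟩)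
    haveI := hQ'p
    have hQQ' : Q ≤ Q' := hQ'p.le_of_pow_le (le_sup_right.trans hQ')
    refine hq ?_
    have : Q = Q' := by
      by_contra hne
      have := Ideal.IsIntegral.comap_lt_comap (R := R) (lt_of_le_of_ne hQQ' hne)
      rw [hQP, hQ'P] at this
      exact lt_irrefl _ this
    rw [this]
    exact hQ' (Ideal.mem_sup_left (Ideal.mem_span_singleton_self q))
  obtain ⟨g, hg⟩ := hc (p * q')
  let u : Localization.AtPrime P := IsLocalization.mk' _ (1 : R) (⟨t, ht⟩ : P.primeCompl)
  have hu : f u * algebraMap S (Localization.AtPrime Q) (algebraMap R S t) = 1 := by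
    rw [← hf, ← map_mul, show u * algebraMap R (Localization.AtPrime P) t = algebraMap R _ 1 from
      IsLocalization.mk'_spec _ (1 : R) (⟨t, ht⟩ : P.primeCompl), map_one, map_one]
  let coef : Fin n → Localization.AtPrime P := fun i => u * algebraMap R _ (g i)
  refine ⟨(AdicCompletion.piEquivFin mP n).symm (fun i => algebraMap _ _ (coef i)), ?_⟩
  rw [LinearMap.comp_apply, Submodule.mkQ_apply, Submodule.mkQ_apply, Submodule.Quotient.eq]
  simp only [ee, LinearMap.comp_apply, LinearMap.restrictScalars_apply, LinearEquiv.coe_coe,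
    LinearEquiv.apply_symm_apply]
  have hsum : Φ (fun i => algebraMap _ _ (coef i)) = algebraMap (Localization.AtPrime Q)
      (EGA4.Cpl (Localization.AtPrime Q)) (f u * algebraMap S _ (p * q')) := by
    rw [← hg, map_sum, Finset.mul_sum, map_sum, Fintype.linearCombination_apply]
    refine Finset.sum_congr rfl fun i _ => ?_
    rw [Algebra.smul_def, hθ, ← map_mul, map_mul f u, hf, Algebra.smul_def, map_mul (algebraMap S _), mul_assoc]
  have hmem : y - Φ (fun i => algebraMap _ _ (coef i)) ∈
      (mQ ^ N • ⊤ : Submodule (Localization.AtPrime Q) (EGA4.Cpl (Localization.AtPrime Q))) := by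
    have h2 : a - f u * algebraMap S _ (p * q') ∈ mQ ^ N := by
      have h3 : a - f u * algebraMap S _ (p * q') = (a * f u) * algebraMap S _ e := by
        have hp : a * algebraMap S _ q = algebraMap S _ p := hpq
        have h1 := congrArg (algebraMap S (Localization.AtPrime Q)) hqe
        rw [map_add, map_mul] at h1
        rw [map_mul (algebraMap S _) p q', ← hp]
        linear_combination (-a * f u) * h1 + (-a) * hu
      rw [h3, show mQ = Q.map (algebraMap S (Localization.AtPrime Q)) from
        (IsLocalization.AtPrime.map_eq_maximalIdeal Q _).symm, ← Ideal.map_pow]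
      exact Ideal.mul_mem_left _ _ (Ideal.mem_map_of_mem _ he)
    rw [hsum, ← sub_add_sub_cancel y (algebraMap (Localization.AtPrime Q) _ a), ← map_sub]
    refine add_mem ha ?_
    rw [Algebra.algebraMap_eq_smul_one]
    exact Submodule.smul_mem_smul h2 trivial
  have h4 : y - Φ (fun i => algebraMap _ _ (coef i)) ∈
      ((mP.map (algebraMap (Localization.AtPrime P) (Localization.AtPrime Q))) • ⊤ :
        Submodule (Localization.AtPrime Q) (EGA4.Cpl (Localization.AtPrime Q))).restrictScalars
          (Localization.AtPrime P) :=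
    Submodule.smul_mono hN le_rfl hmem
  rw [Submodule.restrictScalars_map_smul_eq, Submodule.restrictScalars_top] at h4
  simpa using neg_mem h4

end Groth.L28.CplGalois
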